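import Mathlib

/-!
Ramification index `Ideal.ramificationIdx'` of local valuation rings, and extension of valuation subrings.
-/

universe u

set_option linter.all false

namespace EtRamIdx

open IsLocalRing

variable {A W : Type u} [CommRing A] [IsLocalRing A] [CommRing W] [IsDomain W] [ValuationRing W] [Algebra A W]
  [IsLocalHom (algebraMap A W)]

lemma not_forall_exists {π : A} (hne : Ideal.ramificationIdx' (maximalIdeal A) (maximalIdeal W) ≠ 0) (_hm : maximalIdeal A = Ideal.span {π}) :
    ¬ ∀ k : ℕ, ∃ j, (maximalIdeal A).map (algebraMap A W) ≤ maximalIdeal W ^ j ∧ k < j :=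
  fun h => hne (Ideal.ramificationIdx'_eq_zero h)

/-- A nonzero ramification index forces a principal maximal ideal. -/
lemma exists_generator {π : A} (hm : maximalIdeal A = Ideal.span {π})
    (hne : Ideal.ramificationIdx' (maximalIdeal A) (maximalIdeal W) ≠ 0) :
    ∃ t : W, maximalIdeal W = Ideal.span {t} ∧
      Associated (algebraMap A W π) (t ^ Ideal.ramificationIdx' (maximalIdeal A) (maximalIdeal W)) := by
  have hne' := not_forall_exists hne hm
  have hπm : π ∈ maximalIdeal A := by rw [hm]; exact Ideal.mem_span_singleton_self π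
  have hmapW : (maximalIdeal A).map (algebraMap A W) = Ideal.span {algebraMap A W π} := by
    rw [hm, Ideal.map_span, Set.image_singleton]
  obtain ⟨t, ht, ht'⟩ : ∃ t ∈ maximalIdeal W, t ∉ maximalIdeal W ^ 2 := by
    by_contra hc
    push Not at hc
    have hidem : ∀ j, maximalIdeal W ≤ maximalIdeal W ^ (j + 1) := by
      intro j
      induction j with
      | zero => rw [pow_one]
      | succ j ih =>
        calc maximalIdeal W ≤ maximalIdeal W ^ 2 := hc
          _ = maximalIdeal W * maximalIdeal W := pow_two _
          _ ≤ maximalIdeal W * maximalIdeal W ^ (j + 1) := Ideal.mul_mono_right ih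
          _ = _ := (pow_succ' _ _).symm
    refine hne' fun k => ⟨k + 1, le_trans ?_ (hidem k), Nat.lt_succ_self k⟩
    rw [hmapW, Ideal.span_singleton_le_iff_mem, mem_maximalIdeal, mem_nonunits_iff, isUnit_map_iff]
    exact hπm
  have hmW : maximalIdeal W = Ideal.span {t} := by
    refine le_antisymm (fun s hs => ?_) ((Ideal.span_singleton_le_iff_mem _).mpr ht)
    rcases ValuationRing.dvd_total t s with h | ⟨c, hc⟩
    · exact Ideal.mem_span_singleton.mpr h
    · by_cases hu : IsUnit c
      · exact Ideal.mem_span_singleton.mpr ⟨↑hu.unit⁻¹, by rw [hc, mul_assoc, hu.mul_val_inv, mul_one]⟩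
      · exact absurd (hc ▸ pow_two (maximalIdeal W) ▸ Ideal.mul_mem_mul hs hu) ht'
  refine ⟨t, hmW, ?_⟩
  set n := Ideal.ramificationIdx' (maximalIdeal A) (maximalIdeal W) with hn
  have hspec : (maximalIdeal A).map (algebraMap A W) ≤ maximalIdeal W ^ n :=
    Ideal.le_pow_of_le_ramificationIdx' le_rfl
  have hspec' : ¬ (maximalIdeal A).map (algebraMap A W) ≤ maximalIdeal W ^ (n + 1) := by
    intro h
    refine hne' fun k => ?_
    by_contra hk
    push Not at hk
    have hbdd : BddAbove {j | (maximalIdeal A).map (algebraMap A W) ≤ maximalIdeal W ^ j} := ⟨k, fun j hj => hk j hj⟩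
    have hle : n + 1 ≤ n := le_csSup hbdd h
    omega
  rw [hmapW, hmW, Ideal.span_singleton_pow, Ideal.span_singleton_le_span_singleton] at hspec hspec'
  obtain ⟨c, hc⟩ := hspec
  have hcu : IsUnit c := by
    by_contra hcu
    obtain ⟨d, rfl⟩ : t ∣ c := Ideal.mem_span_singleton.mp (hmW ▸ hcu)
    exact hspec' ⟨d, by rw [hc]; ring⟩
  rw [hc]
  exact associated_mul_unit_left _ _ hcu

/-- Computing the ramification index from a generator. -/
lemma eq_of_associated {π : A} (hm : maximalIdeal A = Ideal.span {π}) {t : W}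
    (hmW : maximalIdeal W = Ideal.span {t}) (ht : t ≠ 0) {n : ℕ} (h : Associated (algebraMap A W π) (t ^ n)) :
    Ideal.ramificationIdx' (maximalIdeal A) (maximalIdeal W) = n := by
  have htm : t ∈ maximalIdeal W := by rw [hmW]; exact Ideal.mem_span_singleton_self t
  refine Ideal.ramificationIdx'_spec ?_ ?_
  · rw [hm, Ideal.map_span, Set.image_singleton, hmW, Ideal.span_singleton_pow, Ideal.span_singleton_le_span_singleton]
    exact h.symm.dvd
  · rw [hm, Ideal.map_span, Set.image_singleton, hmW, Ideal.span_singleton_pow, Ideal.span_singleton_le_span_singleton]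
    intro h'
    have h2 : t ^ n * t ∣ t ^ n * 1 := by rw [← pow_succ, mul_one]; exact h'.trans h.dvd
    exact htm (isUnit_of_dvd_one ((mul_dvd_mul_iff_left (pow_ne_zero _ ht)).mp h2))

end EtRamIdx
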